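/-
Coset enumeration certificate: the assembled result.
-/
import Cfsg.Agent.Lib.Spor.TC.Steps
import Cfsg.Agent.Lib.Spor.J3.Rels
import Cfsg.Agent.Lib.Spor.J3.CJ.Part0
import Cfsg.Agent.Lib.Spor.J3.CJ.Part1
import Cfsg.Agent.Lib.Spor.J3.CJ.Part2
import Cfsg.Agent.Lib.Spor.J3.CJ.Part3
import Cfsg.Agent.Lib.Spor.J3.CJ.Part4
import Cfsg.Agent.Lib.Spor.J3.CJ.Part5
import Cfsg.Agent.Lib.Spor.J3.CJ.Part6
import Cfsg.Agent.Lib.Spor.J3.CJ.Part7
import Cfsg.Agent.Lib.Spor.J3.CJ.Part8
import Cfsg.Agent.Lib.Spor.J3.CJ.Part9
import Cfsg.Agent.Lib.Spor.J3.CJ.Part10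
import Cfsg.Agent.Lib.Spor.J3.CJ.Part11
import Cfsg.Agent.Lib.Spor.J3.CJ.Part12
import Cfsg.Agent.Lib.Spor.J3.CJ.Part13

namespace CfsgLib.Spor.J3.CJ

open CfsgLib.Spor.TC

theorem steps_ok : cert.StepsOK 0 121068 :=
  (((((((((((((((((((((((((((((((((((steps0.append _ steps3499).append _ steps7004).append _ steps10534).append _ steps14081).append _ steps17611).append _ steps21168).append _ steps24693).append _ steps28265).append _ steps31827).append _ steps35313).append _ steps38813).append _ steps42302).append _ steps45764).append _ steps49250).append _ steps52640).append _ steps56012).append _ steps59297).append _ steps62678).append _ steps65873).append _ steps68951).append _ steps71921).append _ steps74944).append _ steps78197).append _ steps81574).append _ steps84952).append _ steps88336).append _ steps91720).append _ steps95093).append _ steps98469).append _ steps101851).append _ steps105229).append _ steps108613).append _ steps112005).append _ steps115410).append _ steps118829)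

theorem rows_ok : cert.RowsOK 121068 6156 0 6156 :=
  (((rows0.append _ rows2000).append _ rows4000).append _ rows6000)

theorem row_zero : cert.rowNode 0 = 0 := by decide +kernel

/-- The certificate, for the relators as powers of words. -/
noncomputable def cosetCert : CosetCert 4 relsJ [0, 1, 2] 6156 :=
  ⟨cert, 121068, steps_ok, rows_ok, row_zero, by decide, rfl, by decide +kernel, by decide +kernel⟩

end CfsgLib.Spor.J3.CJ
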